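import Cfsg.Agent.Lib.Spectrum.UnitaryElements
import Cfsg.Prelude.Def_LieClassical

/-!
The centre of a unitary group.
-/

set_option autoImplicit false

open Matrix

namespace CfsgLib.UnitaryMaxOrder

open CfsgLib.Spectrum

variable {F : Type*} [Field F] {n : ℕ} (p l : ℕ) [Fact p.Prime] [CharP F p]

/-- Membership in the unitary group. -/
theorem mem_GU_iff_adj (g : Matrix.GeneralLinearGroup (Fin n) F) :
    g ∈ Cfsg.GU n F (p ^ l) ↔
      hermAdj (p ^ l) (g : Matrix (Fin n) (Fin n) F) * g = 1 := by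
  have hq : p ^ l ≠ 0 := pow_ne_zero _ (Fact.out : p.Prime).ne_zero
  constructor
  · intro h
    ext j i
    have h1 : Cfsg.hermForm n F (p ^ l) ((g : Matrix (Fin n) (Fin n) F) *ᵥ Pi.single i 1)
        ((g : Matrix (Fin n) (Fin n) F) *ᵥ Pi.single j 1) =
        Cfsg.hermForm n F (p ^ l) (Pi.single i 1) (Pi.single j 1) := h _ _
    have h2 : Cfsg.hermForm n F (p ^ l) (Pi.single i 1) (Pi.single j 1) =
        (1 : Matrix (Fin n) (Fin n) F) j i := by
      rw [Cfsg.hermForm, Finset.sum_eq_single i (fun k _ hk => by simp [hk]) (by simp)]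
      rcases eq_or_ne i j with rfl | hij
      · simp
      · simp [hij, Matrix.one_apply_ne (Ne.symm hij), zero_pow hq]
    rw [h2] at h1
    simp only [Cfsg.hermForm, Matrix.mulVec_single_one, Matrix.col_apply] at h1
    simp only [Matrix.mul_apply, hermAdj, Matrix.transpose_apply, Matrix.map_apply]
    rw [Finset.sum_congr rfl fun k _ => mul_comm _ _, h1]
  · intro h u v
    show Cfsg.hermForm n F (p ^ l) ((g : Matrix (Fin n) (Fin n) F) *ᵥ u)
      ((g : Matrix (Fin n) (Fin n) F) *ᵥ v) = _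
    have hform : ∀ x y : Fin n → F,
        Cfsg.hermForm n F (p ^ l) x y = x ⬝ᵥ (fun i => iterateFrobenius F p l (y i)) := fun x y => by
      simp [Cfsg.hermForm, dotProduct, iterateFrobenius_def]
    rw [hform, hform, funext (RingHom.map_mulVec (iterateFrobenius F p l) (g : Matrix (Fin n) (Fin n) F) v)]
    have hT : ((g : Matrix (Fin n) (Fin n) F))ᵀ *
        (g : Matrix (Fin n) (Fin n) F).map (iterateFrobenius F p l) = 1 := by
      rw [map_iterateFrobenius_eq]
      have := congrArg Matrix.transpose h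
      rwa [Matrix.transpose_mul, Matrix.transpose_one, hermAdj, Matrix.transpose_transpose] at this
    rw [← Matrix.vecMul_transpose, ← Matrix.dotProduct_mulVec, Matrix.mulVec_mulVec, hT, Matrix.one_mulVec]
    rfl

variable [Fintype F] (hF : Fintype.card F = (p ^ l) ^ 2)
include hF

omit hF in
theorem mk_eq_one_of_scalar {g : Cfsg.GU n F (p ^ l)} {c : F}
    (hg : ((g : Matrix.GeneralLinearGroup (Fin n) F) : Matrix (Fin n) (Fin n) F) = Matrix.scalar (Fin n) c) :
    (QuotientGroup.mk g : Cfsg.GU n F (p ^ l) ⧸ Subgroup.center _) = 1 := by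
  rw [QuotientGroup.eq_one_iff, Subgroup.mem_center_iff]
  intro b
  apply Subtype.ext
  apply Units.ext
  simp only [Subgroup.coe_mul, Units.val_mul, hg]
  exact ((Matrix.scalar_commute c (mul_comm c) _).eq).symm

/-- A central element of the unitary group is scalar. -/
theorem exists_scalar_of_mk_eq_one {g : Cfsg.GU n F (p ^ l)}
    (hg : (QuotientGroup.mk g : Cfsg.GU n F (p ^ l) ⧸ Subgroup.center _) = 1) :
    ∃ c : F, ((g : Matrix.GeneralLinearGroup (Fin n) F) : Matrix (Fin n) (Fin n) F) =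
      Matrix.scalar (Fin n) c := by
  classical
  rw [QuotientGroup.eq_one_iff, Subgroup.mem_center_iff] at hg
  set M := ((g : Matrix.GeneralLinearGroup (Fin n) F) : Matrix (Fin n) (Fin n) F) with hM
  have hcomm : ∀ N : Matrix (Fin n) (Fin n) F, hermAdj (p ^ l) N * N = 1 → N * M = M * N := by
    intro N hN
    let u : Matrix.GeneralLinearGroup (Fin n) F :=
      ⟨N, hermAdj (p ^ l) N, mul_eq_one_comm.1 hN, hN⟩
    exact congrArg (fun x : Cfsg.GU n F (p ^ l) => ((x : Matrix.GeneralLinearGroup (Fin n) F) :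
      Matrix (Fin n) (Fin n) F)) (hg ⟨u, (mem_GU_iff_adj p l u).2 hN⟩)
  have hq2 : 2 ≤ p ^ l := two_le_pow p l hF
  obtain ⟨ζ, hζ, hζ1⟩ : ∃ ζ : F, ζ ^ (p ^ l + 1) = 1 ∧ ζ ≠ 1 := by
    obtain ⟨u, hu⟩ := IsCyclic.exists_ofOrder_eq_natCard (α := Fˣ)
    rw [Nat.card_units, Nat.card_eq_fintype_card, hF] at hu
    have hd : p ^ l + 1 ∣ (p ^ l) ^ 2 - 1 :=
      ⟨p ^ l - 1, by rw [← Nat.sq_sub_sq, one_pow]⟩
    obtain ⟨z, hz⟩ := exists_orderOf_eq_of_dvd_orderOf u (hu ▸ hd)
    refine ⟨(z : F), by rw [← Units.val_pow_eq_pow_val, ← hz, pow_orderOf_eq_one, Units.val_one],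
      fun e => ?_⟩
    rw [Units.val_eq_one.1 e, orderOf_one] at hz
    omega
  have hoff : ∀ i j, i ≠ j → M i j = 0 := by
    intro i j hij
    let v : Fin n → F := Function.update 1 i ζ
    have h := congrFun (congrFun (hcomm (Matrix.diagonal v) (by
      rw [hermAdj, Matrix.diagonal_map (f := fun x : F => x ^ p ^ l) (zero_pow (by omega)), Matrix.diagonal_transpose,
        Matrix.diagonal_mul_diagonal, ← Matrix.diagonal_one]
      refine congrArg Matrix.diagonal (funext fun k => ?_)
      rcases eq_or_ne k i with rfl | hk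
      · simp [v, ← pow_succ, hζ]
      · simp [v, hk])) i) j
    rw [Matrix.diagonal_mul, Matrix.mul_diagonal, show v i = ζ by simp [v],
      show v j = 1 by simp [v, hij.symm], mul_one] at h
    have h2 : (ζ - 1) * M i j = 0 := by rw [sub_mul, one_mul, h, sub_self]
    exact (mul_eq_zero.1 h2).resolve_left (sub_ne_zero.2 hζ1)
  have hsame : ∀ i j, M i i = M j j := by
    intro i j
    let π := Equiv.swap i j
    let N : Matrix (Fin n) (Fin n) F := π.toPEquiv.toMatrix
    have h1 : hermAdj (p ^ l) N = π.symm.toPEquiv.toMatrix := by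
      rw [Equiv.toPEquiv_symm, PEquiv.toMatrix_symm]
      ext a b
      simp [hermAdj, N, PEquiv.toMatrix_apply, apply_ite (fun x : F => x ^ p ^ l)]
      split_ifs <;> simp [(Fact.out : p.Prime).ne_zero]
    have h := congrFun (congrFun (hcomm N (by
      rw [h1, ← PEquiv.toMatrix_trans, ← Equiv.toPEquiv_trans, Equiv.symm_trans_self]
      simp [PEquiv.toMatrix_refl])) i) j
    rw [PEquiv.toMatrix_toPEquiv_mul, PEquiv.mul_toMatrix_toPEquiv] at h
    simpa [π, Equiv.swap_apply_left, Equiv.swap_apply_right] using h.symm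
  rcases Nat.eq_zero_or_pos n with rfl | hn
  · exact ⟨0, Matrix.ext fun i => i.elim0⟩
  refine ⟨M ⟨0, hn⟩ ⟨0, hn⟩, Matrix.ext fun i j => ?_⟩
  rcases eq_or_ne i j with rfl | hij
  · rw [Matrix.scalar_apply, Matrix.diagonal_apply_eq]
    exact hsame _ _
  · rw [Matrix.scalar_apply, Matrix.diagonal_apply_ne _ hij]
    exact hoff i j hij

end CfsgLib.UnitaryMaxOrder
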