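import Cfsg.Agent.Lib.Spectrum.AltExp

/-!
The arithmetic behind the largest element order of a projective unitary group.
-/

set_option autoImplicit false

namespace CfsgLib.UnitaryMaxOrder

open CfsgLib.Spectrum

/-- The four bounds. -/
def Bnd (q p f d r : ℕ) : Prop :=
  (Odd d → 2 ≤ f → r ≤ q ^ (d - 1) - 1) ∧
  (Odd d → f = 1 → r ≤ (p ^ (d - 2) + 1) * p) ∧
  (Even d → 2 < q → r ≤ q ^ (d - 1) + 1) ∧
  (Even d → q = 2 → r ≤ 4 * (2 ^ (d - 3) + 1))

/-- The order contributed by a block of degree `k` and multiplicity `m`. -/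
def phi (q p : ℕ) (x : ℕ × ℕ) : ℕ := altExp q x.1 * p ^ Nat.clog p x.2

theorem clog_le_pred {p m : ℕ} (hp : 2 ≤ p) (hm : 1 ≤ m) : Nat.clog p m ≤ m - 1 := by
  apply Nat.clog_le_of_le_pow
  have h1 := Nat.lt_pow_self (a := p) (n := m - 1) (by omega)
  omega

theorem clog_le_pred_two {p m : ℕ} (hp : 2 ≤ p) (hm : 4 ≤ m) : Nat.clog p m ≤ m - 2 := by
  apply Nat.clog_le_of_le_pow
  obtain ⟨j, rfl⟩ : ∃ j, m = j + 4 := ⟨m - 4, by omega⟩
  have h1 := Nat.lt_pow_self (a := 2) (n := j) (by omega)
  calc j + 4 ≤ 2 ^ j * 4 := by omega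
    _ = 2 ^ (j + 4 - 2) := by rw [show j + 4 - 2 = j + 2 by omega, pow_add]; norm_num
    _ ≤ _ := Nat.pow_le_pow_left hp _

theorem clog_small {p m : ℕ} (h1 : 2 ≤ m) (h2 : m ≤ p) : Nat.clog p m = 1 :=
  le_antisymm (Nat.clog_le_of_le_pow (by rwa [pow_one])) (Nat.clog_pos (by omega) h1)

variable {q p f d r : ℕ}

theorem altExp_one (hq : 1 ≤ q) : altExp q 1 = 1 := by
  have h := add_one_mul_altExp_odd hq odd_one
  rw [pow_one] at h
  exact Nat.eq_of_mul_eq_mul_left (Nat.succ_pos q) (h.trans (mul_one _).symm)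

theorem altExp_mul_le (hq : 1 ≤ q) (k : ℕ) : (q + 1) * altExp q k ≤ q ^ k + 1 := by
  rcases Nat.even_or_odd k with h | h
  · rw [add_one_mul_altExp_even hq h]; omega
  · rw [add_one_mul_altExp_odd hq h]

theorem altExp_le (hq : 1 ≤ q) {k : ℕ} (hk : 1 ≤ k) : altExp q k ≤ q ^ (k - 1) := by
  obtain ⟨j, rfl⟩ : ∃ j, k = j + 1 := ⟨k - 1, by omega⟩
  refine Nat.le_of_mul_le_mul_left ((altExp_mul_le hq _).trans ?_) (Nat.succ_pos q)
  have h1 := Nat.one_le_pow j q hq
  rw [Nat.add_sub_cancel, add_mul, one_mul, pow_succ']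
  omega

variable (hp : 2 ≤ p) (hq : q = p ^ f) (hf : 1 ≤ f)
include hp hq hf

theorem q_two : 2 ≤ q := hp.trans (hq ▸ Nat.le_self_pow (by omega) p)

theorem ppow_le {m e : ℕ} (he : e ≤ m) : p ^ e ≤ q ^ m :=
  (Nat.pow_le_pow_right (by omega) he).trans
    (Nat.pow_le_pow_left (hq ▸ Nat.le_self_pow (by omega) p) m)

theorem phi_le {k m : ℕ} (hk : 1 ≤ k) (hm : 1 ≤ m) : phi q p (k, m) ≤ q ^ (k + m - 2) := by
  have hq2 := q_two hp hq hf
  calc phi q p (k, m) ≤ q ^ (k - 1) * q ^ (m - 1) :=
        Nat.mul_le_mul (altExp_le (by omega) hk) (ppow_le hp hq hf (clog_le_pred hp hm))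
    _ = _ := by rw [← pow_add]; congr 1; omega

theorem phi_le' {k m : ℕ} (hk : 1 ≤ k) (hm : 1 ≤ m) : phi q p (k, m) ≤ q ^ (k * m - 1) := by
  refine (phi_le hp hq hf hk hm).trans (Nat.pow_le_pow_right (by have := q_two hp hq hf; omega) ?_)
  obtain ⟨a, rfl⟩ : ∃ a, k = a + 1 := ⟨k - 1, by omega⟩
  obtain ⟨b, rfl⟩ : ∃ b, m = b + 1 := ⟨m - 1, by omega⟩
  rw [add_one_mul, mul_add_one]
  omega

theorem phi_le_two {k m : ℕ} (hk : 2 ≤ k) (hm : 2 ≤ m) : phi q p (k, m) ≤ q ^ (k * m - 2) := by
  refine (phi_le hp hq hf (by omega) (by omega)).trans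
    (Nat.pow_le_pow_right (by have := q_two hp hq hf; omega) ?_)
  obtain ⟨a, rfl⟩ : ∃ a, k = a + 2 := ⟨k - 2, by omega⟩
  obtain ⟨b, rfl⟩ : ∃ b, m = b + 2 := ⟨m - 2, by omega⟩
  rw [add_mul, mul_add, mul_add]
  omega

theorem prod_phi_le : ∀ L : List (ℕ × ℕ), (∀ x ∈ L, 1 ≤ x.1 ∧ 1 ≤ x.2) →
    (L.map (phi q p)).prod ≤ q ^ ((L.map fun x => x.1 * x.2).sum - L.length) ∧
      L.length ≤ (L.map fun x => x.1 * x.2).sum
  | [], _ => by simp
  | x :: L, hL => by
    obtain ⟨h1, h2⟩ := prod_phi_le L fun y hy => hL y (List.mem_cons_of_mem x hy)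
    obtain ⟨hk, hm⟩ := hL x (by simp)
    have hx : 1 ≤ x.1 * x.2 := Nat.mul_pos hk hm
    simp only [List.map_cons, List.prod_cons, List.sum_cons, List.length_cons]
    refine ⟨(Nat.mul_le_mul (phi_le' hp hq hf hk hm) h1).trans (le_of_eq ?_), by omega⟩
    rw [← pow_add]
    congr 1
    omega

theorem bnd_of_le (hd : 3 ≤ d) (h : r ≤ q ^ (d - 1) - 1) : Bnd q p f d r := by
  refine ⟨fun _ _ => h, fun _ hf1 => ?_, fun _ _ => by omega, fun _ hq2 => ?_⟩
  · subst hf1
    rw [pow_one] at hq
    subst hq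
    rw [add_mul, one_mul, ← pow_succ, show d - 2 + 1 = d - 1 by omega]
    omega
  · subst hq2
    rw [show d - 1 = d - 3 + 2 by omega, pow_add] at h
    omega

theorem bnd_of_le_even (he : Even d) (hd : 3 ≤ d) (h : r ≤ q ^ (d - 1) + 1) : Bnd q p f d r := by
  refine ⟨fun ho => absurd he (Nat.not_even_iff_odd.2 ho),
    fun ho => absurd he (Nat.not_even_iff_odd.2 ho), fun _ _ => h, fun _ hq2 => ?_⟩
  subst hq2
  rw [show d - 1 = d - 3 + 2 by omega, pow_add] at h
  omega

theorem bnd_of_low (hd : 3 ≤ d) (h : r ≤ (q + 1) * q ^ (d - 3)) : Bnd q p f d r := by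
  refine bnd_of_le hp hq hf hd (h.trans ?_)
  have hq2 := q_two hp hq hf
  have h1 := Nat.one_le_pow (d - 3) q (by omega)
  rw [show d - 1 = d - 3 + 2 by omega, pow_add]
  obtain ⟨a, ha⟩ : ∃ a, a = q ^ (d - 3) := ⟨_, rfl⟩
  rw [← ha] at h1 ⊢
  have : (q + 1) * a + 1 ≤ a * q ^ 2 := by nlinarith
  omega

/-- Two semisimple blocks. -/
theorem bnd_pair {a b : ℕ} (ha : 1 ≤ a) (hb : 1 ≤ b) (hab : a + b = d) (hd : 3 ≤ d)
    (h : r ≤ (q + 1) * (altExp q a * altExp q b)) : Bnd q p f d r := by
  have hq2 := q_two hp hq hf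
  have hpa := Nat.one_le_pow a q (by omega)
  have hpb := Nat.one_le_pow b q (by omega)
  have hmul : q ^ a * q ^ b = q * q ^ (d - 1) := by
    rw [← pow_add, ← pow_succ', hab]
    congr 1
    omega
  have hh : (q + 1) * r ≤ ((q + 1) * altExp q a) * ((q + 1) * altExp q b) :=
    (Nat.mul_le_mul_left _ h).trans (le_of_eq (by ring))
  have hsmall : ∀ x y, 1 ≤ x → 2 ≤ y → x + y = d → q ^ x ≤ q ^ (d - 2) := fun x y _ _ _ =>
    Nat.pow_le_pow_right (by omega) (by omega)
  rcases Nat.even_or_odd d with hde | hdo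
  · refine bnd_of_le_even hp hq hf hde hd ?_
    have key : q ^ a + q ^ b ≤ q ^ (d - 1) + q := by
      rcases eq_or_ne a 1 with rfl | ha1
      · rw [pow_one, show b = d - 1 by omega]; omega
      rcases eq_or_ne b 1 with rfl | hb1
      · rw [pow_one, show a = d - 1 by omega]
      have h1 := hsmall a b ha (by omega) hab
      have h2 := hsmall b a hb (by omega) (by omega)
      have h3 : 2 * q ^ (d - 2) ≤ q ^ (d - 1) := by
        rw [show d - 1 = d - 2 + 1 by omega, pow_succ']
        exact Nat.mul_le_mul_right _ hq2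
      omega
    refine Nat.le_of_mul_le_mul_left (hh.trans ?_) (Nat.succ_pos q)
    refine (Nat.mul_le_mul (altExp_mul_le (by omega) a) (altExp_mul_le (by omega) b)).trans ?_
    nlinarith
  · refine bnd_of_le hp hq hf hd ?_
    obtain ⟨u, hu⟩ : ∃ u, q ^ (d - 1) = u + 1 := ⟨q ^ (d - 1) - 1, by
      have := Nat.one_le_pow (d - 1) q (by omega); omega⟩
    rw [hu, Nat.add_sub_cancel]
    refine Nat.le_of_mul_le_mul_left (hh.trans ?_) (Nat.succ_pos q)
    have case : ∀ x y, 1 ≤ x → 1 ≤ y → x + y = d → Even x →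
        (q + 1) * altExp q x * ((q + 1) * altExp q y) ≤ (q + 1) * u := by
      intro x y hx hy hxy hxe
      have hyo : Odd y := (Nat.odd_add'.1 (hxy ▸ hdo)).2 hxe
      rw [add_one_mul_altExp_even (by omega) hxe, add_one_mul_altExp_odd (by omega) hyo]
      obtain ⟨v, hv⟩ : ∃ v, q ^ x = v + 1 := ⟨q ^ x - 1, by
        have := Nat.one_le_pow x q (by omega); omega⟩
      have hmul' : q ^ x * q ^ y = q * q ^ (d - 1) := by
        rw [← pow_add, ← pow_succ', hxy]
        congr 1
        omega
      have hx1 : q ^ x ≤ q ^ (d - 1) := Nat.pow_le_pow_right (by omega) (by omega)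
      rw [hv, Nat.add_sub_cancel]
      rw [hv, hu] at hmul' hx1
      rcases eq_or_ne y 1 with rfl | hy1
      · rw [pow_one]
        have : x = d - 1 := by omega
        subst this
        nlinarith
      · have hy2 : q * q ≤ q ^ y := by rw [← pow_two]; exact Nat.pow_le_pow_right (by omega) (by omega)
        nlinarith
    rcases Nat.even_or_odd a with hae | hao
    · exact case a b ha hb hab hae
    · rw [mul_comm ((q + 1) * altExp q a)]
      exact case b a hb ha (by omega) ((Nat.odd_add.1 (hab ▸ hdo)).1 hao)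

/-- A unipotent block beside a semisimple one. -/
theorem bnd_mixed {b m : ℕ} (hb : 1 ≤ b) (hm : 2 ≤ m) (hbm : b + m = d)
    (h : r ≤ p ^ Nat.clog p m * ((q + 1) * altExp q b)) : Bnd q p f d r := by
  have hq2 := q_two hp hq hf
  have hd : 3 ≤ d := by omega
  rcases Nat.lt_or_ge m 4 with hm4 | hm4
  · obtain rfl | rfl : m = 2 ∨ m = 3 := by omega
    · rw [clog_small le_rfl hp, pow_one] at h
      rcases Nat.even_or_odd d with hde | hdo
      · refine bnd_of_le hp hq hf hd (h.trans ?_)
        have hbe : Even b := by rw [← hbm, Nat.even_add] at hde; exact hde.2 even_two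
        rw [add_one_mul_altExp_even (by omega) hbe, show d - 1 = b + 1 by omega, pow_succ']
        have hpq : p ≤ q := hq ▸ Nat.le_self_pow (by omega) p
        refine (Nat.mul_le_mul_right _ hpq).trans ?_
        have := Nat.one_le_pow b q (by omega)
        rw [Nat.mul_sub, mul_one]
        omega
      · have hbo : Odd b := by
          rw [← hbm, Nat.odd_add] at hdo
          exact hdo.2 even_two
        rw [add_one_mul_altExp_odd (by omega) hbo] at h
        rcases Nat.lt_or_ge f 2 with hf2 | hf2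
        · obtain rfl : f = 1 := by omega
          rw [pow_one] at hq
          subst hq
          refine ⟨fun _ h2 => by omega, fun _ _ => ?_, fun he => absurd he (Nat.not_even_iff_odd.2 hdo),
            fun he => absurd he (Nat.not_even_iff_odd.2 hdo)⟩
          rw [show d - 2 = b by omega]
          exact h.trans (le_of_eq (mul_comm _ _))
        · refine bnd_of_le hp hq hf hd (h.trans ?_)
          have hpp : 2 * p ≤ q := by
            rw [hq]
            calc 2 * p ≤ p * p := Nat.mul_le_mul_right _ hp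
              _ = p ^ 2 := (pow_two p).symm
              _ ≤ p ^ f := Nat.pow_le_pow_right (by omega) hf2
          rw [show d - 1 = b + 1 by omega, pow_succ']
          have hqb : q ≤ q ^ b := Nat.le_self_pow (by omega) q
          have : p * (q ^ b + 1) + 1 ≤ q * q ^ b := by nlinarith
          omega
    · rcases eq_or_ne p 2 with rfl | hp3
      · have hc : Nat.clog 2 3 = 2 := le_antisymm (Nat.clog_le_of_le_pow (by norm_num)) (by
          by_contra hlt
          have h1 := Nat.le_pow_clog (b := 2) (by norm_num) 3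
          have h2 := Nat.pow_le_pow_right (show 1 ≤ 2 by norm_num) (show Nat.clog 2 3 ≤ 1 by omega)
          omega)
        rw [hc] at h
        norm_num at h
        rcases Nat.even_or_odd d with hde | hdo
        · have hbo : Odd b := by
            rw [← hbm, Nat.even_add'] at hde
            exact hde.2 (by decide)
          rw [add_one_mul_altExp_odd (by omega) hbo] at h
          rcases Nat.lt_or_ge q 3 with hq3 | hq3
          · obtain rfl : q = 2 := by omega
            refine ⟨fun ho => absurd hde (Nat.not_even_iff_odd.2 ho),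
              fun ho => absurd hde (Nat.not_even_iff_odd.2 ho), fun _ h2 => by omega, fun _ _ => ?_⟩
            rw [show d - 3 = b by omega]
            exact h
          · refine bnd_of_le_even hp hq hf hde hd (h.trans ?_)
            rw [show d - 1 = b + 2 by omega, pow_add]
            have hqb : q ≤ q ^ b := Nat.le_self_pow (by omega) q
            have := Nat.mul_le_mul_left (q ^ b) (Nat.mul_le_mul hq3 hq3)
            rw [pow_two]
            omega
        · have hbe : Even b := by
            rw [← hbm, Nat.odd_add'] at hdo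
            exact hdo.1 (by decide)
          rw [add_one_mul_altExp_even (by omega) hbe] at h
          refine bnd_of_le hp hq hf hd (h.trans ?_)
          rw [show d - 1 = b + 2 by omega, pow_add]
          have := Nat.one_le_pow b q (by omega)
          have := Nat.mul_le_mul_left (q ^ b) (Nat.pow_le_pow_left hq2 2)
          norm_num at this
          omega
      · rw [clog_small (by norm_num) (by omega), pow_one] at h
        refine bnd_of_le hp hq hf hd (h.trans ?_)
        refine (Nat.mul_le_mul (hq ▸ Nat.le_self_pow (by omega) p) (altExp_mul_le (by omega) b)).trans ?_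
        rw [show d - 1 = b + 2 by omega, pow_add]
        have := Nat.one_le_pow b q (by omega)
        have hpq : p ≤ q := hq ▸ Nat.le_self_pow (by omega) p
        have hqb : q ≤ q ^ b := Nat.le_self_pow (by omega) q
        have : q * (q ^ b + 1) + 1 ≤ q ^ b * q ^ 2 := by
          have h1 : q * (q ^ b) * 2 ≤ q ^ b * q ^ 2 := by
            rw [pow_two, mul_comm q (q ^ b), mul_assoc]
            exact Nat.mul_le_mul_left _ (Nat.mul_le_mul_left _ hq2)
          have h2 : q * 2 ≤ q * q ^ b := Nat.mul_le_mul_left _ (hq2.trans hqb)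
          rw [mul_add, mul_one]
          omega
        omega
  · refine bnd_of_le hp hq hf hd (h.trans ?_)
    refine (Nat.mul_le_mul (ppow_le hp hq hf (clog_le_pred_two hp hm4))
      (altExp_mul_le (by omega) b)).trans ?_
    obtain ⟨j, rfl⟩ : ∃ j, m = j + 2 := ⟨m - 2, by omega⟩
    rw [show d - 1 = j + b + 1 by omega, pow_succ, pow_add, Nat.add_sub_cancel]
    have hqb : q ≤ q ^ b := Nat.le_self_pow (by omega) q
    have hqj : q * q ≤ q ^ j := by rw [← pow_two]; exact Nat.pow_le_pow_right (by omega) (by omega)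
    have : q ^ j * (q ^ b + 1) + 1 ≤ q ^ j * q ^ b * q := by
      have h1 := Nat.mul_le_mul_left (q ^ j * q ^ b) hq2
      have h2 := Nat.mul_le_mul_left (q ^ j) (hq2.trans hqb)
      have h3 : 1 ≤ q ^ j := Nat.one_le_pow _ _ (by omega)
      rw [mul_add, mul_one]
      omega
    omega

theorem bnd_list (hd : 3 ≤ d) (h32 : ¬ (d = 3 ∧ q = 2)) (L : List (ℕ × ℕ))
    (hpos : ∀ x ∈ L, 1 ≤ x.1 ∧ 1 ≤ x.2) (hsum : (L.map fun x => x.1 * x.2).sum = d)
    (hN : ∀ N, 0 < N → (∀ x ∈ L, (q + 1) * phi q p x ∣ N) → r ≤ N)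
    (hone : ∀ x, L = [x] → r ≤ phi q p x) : Bnd q p f d r := by
  have hq2 := q_two hp hq hf
  have hphi : ∀ k m, 1 ≤ k → 0 < phi q p (k, m) := fun k m hk => by
    refine Nat.mul_pos (Nat.pos_of_ne_zero fun e => ?_) (pow_pos (by omega) _)
    have e' : (q + 1) * altExp q k = 0 := by rw [e, mul_zero]
    rcases Nat.even_or_odd k with h | h
    · rw [add_one_mul_altExp_even (by omega) h] at e'
      have := Nat.pow_le_pow_right (show 1 ≤ q by omega) hk
      rw [pow_one] at this
      omega
    · rw [add_one_mul_altExp_odd (by omega) h] at e'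
      omega
  match L, hpos, hsum, hN, hone with
  | [], _, hsum, _, _ => simp at hsum; omega
  | [(k, m)], hpos, hsum, _, hone =>
    obtain ⟨hk, hm⟩ := hpos (k, m) (by simp)
    simp at hsum
    have hr := hone _ rfl
    rcases eq_or_ne k 1 with rfl | hk1
    · rw [one_mul] at hsum
      subst hsum
      rw [phi, altExp_one (by omega), one_mul] at hr
      refine bnd_of_le hp hq hf hd (hr.trans ?_)
      rcases Nat.lt_or_ge m 4 with hm4 | hm4
      · obtain rfl : m = 3 := by omega
        rcases eq_or_ne p 2 with rfl | hp3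
        · have h4 : 4 ≤ q := by
            rcases Nat.lt_or_ge f 2 with hf2 | hf2
            · exact absurd (by rw [hq, show f = 1 by omega, pow_one]) fun e => h32 ⟨rfl, e⟩
            · rw [hq]
              exact (Nat.pow_le_pow_right (show 1 ≤ 2 by norm_num) hf2)
          have hc : Nat.clog 2 3 ≤ 2 := Nat.clog_le_of_le_pow (by norm_num)
          have h5 := Nat.pow_le_pow_right (show 1 ≤ 2 by norm_num) hc
          have : 4 + 1 ≤ q ^ 2 := by nlinarith
          show 2 ^ Nat.clog 2 3 ≤ q ^ 2 - 1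
          omega
        · rw [clog_small (by norm_num) (by omega), pow_one]
          have hpq : p ≤ q := hq ▸ Nat.le_self_pow (by omega) p
          have : q + 1 ≤ q ^ 2 := by nlinarith
          show p ≤ q ^ 2 - 1
          omega
      · refine (ppow_le hp hq hf (clog_le_pred_two hp hm4)).trans ?_
        rw [show m - 1 = m - 2 + 1 by omega, pow_succ]
        have := Nat.one_le_pow (m - 2) q (by omega)
        have : q ^ (m - 2) + 1 ≤ q ^ (m - 2) * q := by nlinarith
        omega
    · rcases eq_or_ne m 1 with rfl | hm1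
      · rw [mul_one] at hsum
        subst hsum
        rw [phi, Nat.clog_of_right_le_one le_rfl, pow_zero, mul_one] at hr
        refine bnd_of_le hp hq hf hd (hr.trans ?_)
        refine Nat.le_of_mul_le_mul_left ((altExp_mul_le (by omega) k).trans ?_) (Nat.succ_pos q)
        obtain ⟨u, hu⟩ : ∃ u, q ^ (k - 1) = u + 1 := ⟨q ^ (k - 1) - 1, by
          have := Nat.one_le_pow (k - 1) q (by omega); omega⟩
        have hu2 : q * q ≤ u + 1 := by
          rw [← hu, ← pow_two]; exact Nat.pow_le_pow_right (by omega) (by omega)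
        rw [show k = k - 1 + 1 by omega, pow_succ, Nat.add_sub_cancel, hu, Nat.add_sub_cancel]
        nlinarith
      · refine bnd_of_le hp hq hf hd ((hr.trans (phi_le_two hp hq hf (by omega) (by omega))).trans ?_)
        rw [hsum, show d - 1 = d - 2 + 1 by omega, pow_succ]
        have := Nat.one_le_pow (d - 2) q (by omega)
        have : q ^ (d - 2) + 1 ≤ q ^ (d - 2) * q := by nlinarith
        omega
  | [(k₁, m₁), (k₂, m₂)], hpos, hsum, hN, _ =>
    obtain ⟨hk₁, hm₁⟩ := hpos (k₁, m₁) (by simp)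
    obtain ⟨hk₂, hm₂⟩ := hpos (k₂, m₂) (by simp)
    simp at hsum
    dsimp only at hk₁ hm₁ hk₂ hm₂
    have hd₁ : 1 ≤ k₁ * m₁ := Nat.mul_pos hk₁ hm₁
    have hd₂ : 1 ≤ k₂ * m₂ := Nat.mul_pos hk₂ hm₂
    have hpp := Nat.mul_pos (hphi k₁ m₁ hk₁) (hphi k₂ m₂ hk₂)
    have hr : r ≤ (q + 1) * (phi q p (k₁, m₁) * phi q p (k₂, m₂)) := by
      refine hN _ (Nat.mul_pos (Nat.succ_pos q) hpp) ?_
      simp only [List.mem_cons, List.not_mem_nil, or_false, forall_eq_or_imp, forall_eq]
      exact ⟨Nat.mul_dvd_mul_left _ (dvd_mul_right _ _), Nat.mul_dvd_mul_left _ (dvd_mul_left _ _)⟩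
    by_cases h22 : 2 ≤ k₁ ∧ 2 ≤ m₁
    · refine bnd_of_low hp hq hf hd (hr.trans (Nat.mul_le_mul_left _ ?_))
      refine (Nat.mul_le_mul (phi_le_two hp hq hf h22.1 h22.2) (phi_le' hp hq hf hk₂ hm₂)).trans ?_
      rw [← pow_add]
      have := Nat.mul_le_mul h22.1 h22.2
      exact Nat.pow_le_pow_right (by omega) (by omega)
    by_cases h22' : 2 ≤ k₂ ∧ 2 ≤ m₂
    · refine bnd_of_low hp hq hf hd (hr.trans (Nat.mul_le_mul_left _ ?_))
      refine (Nat.mul_le_mul (phi_le' hp hq hf hk₁ hm₁) (phi_le_two hp hq hf h22'.1 h22'.2)).trans ?_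
      rw [← pow_add]
      have := Nat.mul_le_mul h22'.1 h22'.2
      exact Nat.pow_le_pow_right (by omega) (by omega)
    rcases eq_or_ne m₁ 1 with rfl | hm₁' <;> rcases eq_or_ne m₂ 1 with rfl | hm₂'
    · simp only [mul_one] at hsum
      refine bnd_pair hp hq hf hk₁ hk₂ hsum hd ?_
      simpa [phi] using hr
    · obtain rfl : k₂ = 1 := by omega
      refine bnd_mixed hp hq hf (b := k₁) (m := m₂) hk₁ (by omega) (by omega) ?_
      simpa [phi, altExp_one (show 1 ≤ q by omega), mul_comm, mul_left_comm] using hr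
    · obtain rfl : k₁ = 1 := by omega
      refine bnd_mixed hp hq hf (b := k₂) (m := m₁) hk₂ (by omega) (by omega) ?_
      simpa [phi, altExp_one (show 1 ≤ q by omega), mul_comm, mul_left_comm] using hr
    · obtain rfl : k₁ = 1 := by omega
      obtain rfl : k₂ = 1 := by omega
      simp only [one_mul] at hsum
      set e := max (Nat.clog p m₁) (Nat.clog p m₂) with he
      have hmax : r ≤ (q + 1) * p ^ e := by
        refine hN _ (Nat.mul_pos (Nat.succ_pos q) (pow_pos (by omega) _)) ?_
        simp only [List.mem_cons, List.not_mem_nil, or_false, forall_eq_or_imp, forall_eq, phi,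
          altExp_one (show 1 ≤ q by omega), one_mul]
        exact ⟨Nat.mul_dvd_mul_left _ (pow_dvd_pow p (le_max_left _ _)),
          Nat.mul_dvd_mul_left _ (pow_dvd_pow p (le_max_right _ _))⟩
      refine bnd_of_low hp hq hf hd (hmax.trans (Nat.mul_le_mul_left _ (ppow_le hp hq hf ?_)))
      have h1 := clog_le_pred hp hm₁
      have h2 := clog_le_pred hp hm₂
      omega
  | x :: y :: z :: L, hpos, hsum, hN, _ =>
    set L' := x :: y :: z :: L with hL'
    have hpr : 0 < (L'.map (phi q p)).prod := List.prod_pos fun a ha => by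
      obtain ⟨t, ht, rfl⟩ := List.mem_map.1 ha
      exact hphi t.1 t.2 (hpos t ht).1
    have hr := hN _ (Nat.mul_pos (Nat.succ_pos q) hpr) fun t ht =>
      Nat.mul_dvd_mul_left _ (List.dvd_prod (List.mem_map_of_mem ht))
    refine bnd_of_low hp hq hf hd (hr.trans (Nat.mul_le_mul_left _ ?_))
    refine (prod_phi_le hp hq hf L' hpos).1.trans (Nat.pow_le_pow_right (by omega) ?_)
    have : L'.length = L.length + 3 := by simp [hL']
    omega

end CfsgLib.UnitaryMaxOrder
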