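import Cfsg.Agent.Lib.Spectrum.UnitaryBound
import Cfsg.Agent.Lib.UnitaryMaxOrder.Num

/-!
Polynomials that are stable under `α ↦ α⁻ᑫ` on their roots, split into blocks.
-/

set_option autoImplicit false

open Polynomial

namespace CfsgLib.UnitaryMaxOrder

open CfsgLib.Spectrum

variable {F : Type*} [Field F] [Fintype F] (p l : ℕ) [Fact p.Prime] [CharP F p]

/-- The reversed conjugate polynomial. -/
noncomputable def cj (P : F[X]) : F[X] := P.reverse.map (iterateFrobenius F p l)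

theorem cj_mul (P Q : F[X]) : cj p l (P * Q) = cj p l P * cj p l Q := by
  rw [cj, reverse_mul_of_domain, Polynomial.map_mul]; rfl

theorem cj_pow (P : F[X]) (n : ℕ) : cj p l (P ^ n) = cj p l P ^ n := by
  induction n with
  | zero => rw [pow_zero, pow_zero, cj, ← C_1, reverse_C, C_1, Polynomial.map_one]
  | succ n ih => rw [pow_succ, cj_mul, ih, pow_succ]

theorem cj_dvd {P Q : F[X]} (h : P ∣ Q) : cj p l P ∣ cj p l Q := by
  obtain ⟨R, rfl⟩ := h
  rw [cj_mul]
  exact dvd_mul_right _ _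

theorem pow_dvd_sub_C {g : F[X]} {E e a : ℕ} {c : F} (h : g ∣ X ^ E - C c) (ha : a ≤ p ^ e) :
    g ^ a ∣ X ^ (E * p ^ e) - C (c ^ p ^ e) := by
  refine (pow_dvd_pow g ha).trans ((pow_dvd_pow_of_dvd h _).trans (dvd_of_eq ?_))
  rw [sub_pow_char_pow, ← pow_mul, ← C_pow]

theorem sub_C_dvd_sub_one {n N : ℕ} {c : F} {u : ℕ} (hc : c ^ u = 1) (hN : u * n ∣ N) :
    (X ^ n - C c : F[X]) ∣ X ^ N - 1 := by
  obtain ⟨j, rfl⟩ := hN
  have h := sub_dvd_pow_sub_pow (X ^ n : F[X]) (C c) (u * j)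
  rwa [← pow_mul, ← C_pow, pow_mul c, hc, one_pow, C_1, show n * (u * j) = u * n * j by ring] at h

variable (hF : Fintype.card F = (p ^ l) ^ 2)
include hF

/-- The roots of a factor and of its conjugate have a common scalar power. -/
theorem exists_scalar_pow (f : F[X]) [hff : Fact (Irreducible f)] {E : ℕ}
    (h : AdjoinRoot.root f ^ ((p ^ l + 1) * E) = 1) :
    ∃ c : F, c ^ (p ^ l + 1) = 1 ∧ f ∣ X ^ E - C c ∧ conjFactor p l f ∣ X ^ E - C c := by
  have hfi : Irreducible f := Fact.out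
  haveI : Module.Finite F (AdjoinRoot f) := (AdjoinRoot.powerBasis hfi.ne_zero).finite
  haveI : Finite (AdjoinRoot f) := Module.finite_of_finite F
  set α := AdjoinRoot.root f with hα
  have hx : α ^ E ≠ 0 := fun e => by
    rw [mul_comm, pow_mul, e, zero_pow (by omega)] at h
    exact zero_ne_one h
  obtain ⟨c, hc⟩ := (exists_algebraMap_iff p l hF hx).2 (by
    rw [← pow_mul, show E * ((p ^ l - 1) * (p ^ l + 1)) = (p ^ l + 1) * E * (p ^ l - 1) by ring,
      pow_mul, h, one_pow])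
  have hcq : c ^ (p ^ l + 1) = 1 := by
    apply (algebraMap F (AdjoinRoot f)).injective
    rw [map_pow, map_one, ← hc, ← pow_mul, mul_comm, h]
  refine ⟨c, hcq, ?_, ?_⟩
  · rw [← AdjoinRoot.mk_eq_zero, map_sub, map_pow, AdjoinRoot.mk_X, AdjoinRoot.mk_C,
      ← AdjoinRoot.algebraMap_eq, ← hα, hc, sub_self]
  · refine minpoly.dvd F _ ?_
    rw [map_sub, map_pow, aeval_X, aeval_C, ← hα, ← pow_mul, mul_comm, pow_mul, inv_pow, hc,
      ← map_inv₀, ← map_pow]
    rw [show c⁻¹ ^ p ^ l = c by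
      rw [inv_pow]
      exact (eq_inv_of_mul_eq_one_left (by rw [← pow_succ', hcq])).symm, sub_self]

/-- One block. -/
theorem exists_block (f : F[X]) [hff : Fact (Irreducible f)] (hfm : f.Monic) (hf0 : f.coeff 0 ≠ 0) :
    ∃ (k : ℕ) (g : F[X]) (c : F), 1 ≤ k ∧ c ^ (p ^ l + 1) = 1 ∧ g.Monic ∧ f ∣ g ∧
      g.natDegree = k ∧ g ∣ X ^ altExp (p ^ l) k - C c ∧ Associated (cj p l g) g ∧
      (∀ u : F[X], f ∣ u → conjFactor p l f ∣ u → g ∣ u) ∧
      (∀ u : F[X], ¬ f ∣ u → ¬ conjFactor p l f ∣ u → IsCoprime g u) := by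
  have hfi : Irreducible f := Fact.out
  haveI : Module.Finite F (AdjoinRoot f) := (AdjoinRoot.powerBasis hfi.ne_zero).finite
  haveI : Finite (AdjoinRoot f) := Module.finite_of_finite F
  haveI : Fintype (AdjoinRoot f) := Fintype.ofFinite _
  have hfinK : Module.finrank F (AdjoinRoot f) = f.natDegree := by
    rw [(AdjoinRoot.powerBasis hfi.ne_zero).finrank, AdjoinRoot.powerBasis_dim]
  set α := AdjoinRoot.root f with hα
  have hα0 : α ≠ 0 := by
    intro e
    have h0 : AdjoinRoot.mk f X = 0 := by rw [AdjoinRoot.mk_X]; exact e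
    rw [AdjoinRoot.mk_eq_zero] at h0
    have h1 := eq_of_monic_of_associated hfm monic_X (hfi.associated_of_dvd irreducible_X h0)
    exact hf0 (by rw [h1, coeff_X_zero])
  have hw : α ^ (Fintype.card (AdjoinRoot f) - 1) = 1 := FiniteField.pow_card_sub_one_eq_one α hα0
  have hw1 : 1 ≤ Fintype.card (AdjoinRoot f) - 1 := by
    have := Fintype.one_lt_card (α := AdjoinRoot f); omega
  have he := pow_sq_card p l hF
  obtain ⟨hcm, hci, hcd, hcroot, -, -, hca, hca', -⟩ := conjFactor_spec p l he f hfm hw1 hw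
  set f' := conjFactor p l f with hf'
  have hd1 : 1 ≤ f.natDegree := hfi.natDegree_pos
  have hq1 : 1 ≤ p ^ l := Nat.one_le_pow _ _ (Fact.out : p.Prime).pos
  by_cases hff' : f' = f
  · have hβ := hcroot
    rw [hff'] at hβ
    obtain ⟨j, hjd, hj⟩ := root_eq_pow_card (f := f) (β := α⁻¹ ^ (p ^ l)) hβ
    obtain ⟨hodd, hαd⟩ := self_conjugate_spec p l hF f hjd hα0 hj
    obtain ⟨c, hc, hcf, -⟩ := exists_scalar_pow p l hF f (E := altExp (p ^ l) f.natDegree)
      (by rw [add_one_mul_altExp_odd hq1 hodd]; exact hαd)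
    refine ⟨f.natDegree, f, c, hd1, hc, hfm, dvd_rfl, rfl, hcf, ?_, fun u h1 _ => h1,
      fun u h1 _ => hfi.coprime_iff_not_dvd.2 h1⟩
    rwa [hff'] at hca
  · have hcop : IsCoprime f f' := by
      rw [hfi.coprime_iff_not_dvd]
      exact fun hd => hff' (eq_of_monic_of_associated hcm hfm (hfi.associated_of_dvd hci hd).symm)
    obtain ⟨c, hc, hcf, hcf'⟩ := exists_scalar_pow p l hF f (E := altExp (p ^ l) (2 * f.natDegree))
      (by
        rw [add_one_mul_altExp_even hq1 (even_two_mul _)]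
        have hcard : Fintype.card (AdjoinRoot f) = (p ^ l) ^ (2 * f.natDegree) := by
          rw [Module.card_eq_pow_finrank (K := F), hfinK, hF, ← pow_mul]
        rw [← hcard]
        exact hw)
    refine ⟨2 * f.natDegree, f * f', c, by omega, hc, hfm.mul hcm, dvd_mul_right _ _, ?_,
      hcop.mul_dvd hcf hcf', ?_, fun u h1 h2 => hcop.mul_dvd h1 h2,
      fun u h1 h2 => (hfi.coprime_iff_not_dvd.2 h1).mul_left (hci.coprime_iff_not_dvd.2 h2)⟩
    · rw [natDegree_mul hfm.ne_zero hcm.ne_zero, hcd, two_mul]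
    · rw [cj_mul]
      exact (hca.mul_mul hca').trans (Associated.of_eq (mul_comm f' f))

/-- The conjugate of a factor with nonzero constant term. -/
theorem cj_factor (f : F[X]) [hff : Fact (Irreducible f)] (hfm : f.Monic) (hf0 : f.coeff 0 ≠ 0) :
    Associated (cj p l f) (conjFactor p l f) ∧ Associated (cj p l (conjFactor p l f)) f := by
  have hfi : Irreducible f := Fact.out
  haveI : Module.Finite F (AdjoinRoot f) := (AdjoinRoot.powerBasis hfi.ne_zero).finite
  haveI : Finite (AdjoinRoot f) := Module.finite_of_finite F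
  haveI : Fintype (AdjoinRoot f) := Fintype.ofFinite _
  have hα0 : AdjoinRoot.root f ≠ 0 := by
    intro e
    have h0 : AdjoinRoot.mk f X = 0 := by rw [AdjoinRoot.mk_X]; exact e
    rw [AdjoinRoot.mk_eq_zero] at h0
    have h1 := eq_of_monic_of_associated hfm monic_X (hfi.associated_of_dvd irreducible_X h0)
    exact hf0 (by rw [h1, coeff_X_zero])
  obtain ⟨-, -, -, -, -, -, hca, hca', -⟩ := conjFactor_spec p l (pow_sq_card p l hF) f hfm
    (w := Fintype.card (AdjoinRoot f) - 1)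
    (by have := Fintype.one_lt_card (α := AdjoinRoot f); omega)
    (FiniteField.pow_card_sub_one_eq_one _ hα0)
  exact ⟨hca, hca'⟩

theorem exists_blocks (P : F[X]) (hPm : P.Monic) (hP0 : P.coeff 0 ≠ 0)
    (hPc : Associated (cj p l P) P) :
    ∃ L : List (ℕ × ℕ), (∀ x ∈ L, 1 ≤ x.1 ∧ 1 ≤ x.2) ∧
      (L.map fun x => x.1 * x.2).sum = P.natDegree ∧
      (∀ N, (∀ x ∈ L, (p ^ l + 1) * phi (p ^ l) p x ∣ N) → P ∣ X ^ N - 1) ∧
      (∀ x, L = [x] → ∃ c : F, P ∣ X ^ phi (p ^ l) p x - C c) := by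
  induction hn : P.natDegree using Nat.strong_induction_on generalizing P with
  | _ n ih =>
  subst hn
  by_cases hP1 : P = 1
  · exact ⟨[], by simp, by simp [hP1], fun N _ => by rw [hP1]; exact one_dvd _, fun x hx => by simp at hx⟩
  have hPu : ¬ IsUnit P := fun hu => hP1 (hPm.eq_one_of_isUnit hu)
  obtain ⟨f, hfm, hfi, hfd⟩ := exists_monic_irreducible_factor P hPu
  haveI := Fact.mk hfi
  have hf0 : f.coeff 0 ≠ 0 := fun e => hP0 (by
    obtain ⟨R, rfl⟩ := hfd
    rw [mul_coeff_zero, e, zero_mul])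
  obtain ⟨k, g, c, hk, hc, hgm, hfg, hgd, hgE, hgc, hdvd, hcop⟩ := exists_block p l hF f hfm hf0
  -- the conjugate factor
  obtain ⟨hca, hca'⟩ := cj_factor p l hF f hfm hf0
  have hw : ∀ u : F[X], f ∣ u → Associated (cj p l u) u → conjFactor p l f ∣ u := fun u hu hcu =>
    hca.symm.dvd.trans ((cj_dvd p l hu).trans hcu.dvd)
  have hgP : g ∣ P := hdvd P hfd (hw P hfd hPc)
  have hgu : ¬ IsUnit g := fun hu => hfi.1 (isUnit_of_dvd_unit hfg hu)
  obtain ⟨a, Q, hgQ, hPQ⟩ := WfDvdMonoid.max_power_factor' hPm.ne_zero hgu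
  have hQm : Q.Monic := (hgm.pow a).of_mul_monic_left (hPQ ▸ hPm)
  have ha : 1 ≤ a := by
    by_contra h0
    obtain rfl : a = 0 := by omega
    rw [pow_zero, one_mul] at hPQ
    exact hgQ (hPQ ▸ hgP)
  have hQc : Associated (cj p l Q) Q := by
    have h1 : Associated (g ^ a * cj p l Q) (g ^ a * Q) := by
      refine ((Associated.mul_right (hgc.pow_pow) _).symm).trans ?_
      rw [← cj_pow, ← cj_mul, ← hPQ]
      exact hPc
    exact h1.of_mul_left (Associated.refl _) (pow_ne_zero _ hgm.ne_zero)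
  have hfQ : ¬ f ∣ Q := fun hd => hgQ (hdvd Q hd (hw Q hd hQc))
  have hf'Q : ¬ conjFactor p l f ∣ Q := fun hd =>
    hfQ (hca'.symm.dvd.trans ((cj_dvd p l hd).trans hQc.dvd))
  have hcopQ : IsCoprime (g ^ a) Q := (hcop Q hfQ hf'Q).pow_left
  have hQ0 : Q.coeff 0 ≠ 0 := fun e => hP0 (by rw [hPQ, mul_coeff_zero, e, mul_zero])
  have hdeg : P.natDegree = k * a + Q.natDegree := by
    rw [hPQ, natDegree_mul (pow_ne_zero _ hgm.ne_zero) hQm.ne_zero, natDegree_pow, hgd, mul_comm]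
  have hka : 1 ≤ k * a := Nat.mul_pos hk ha
  obtain ⟨L, hL1, hL2, hL3, -⟩ := ih Q.natDegree (by omega) Q hQm hQ0 hQc rfl
  have hga := pow_dvd_sub_C p hgE (Nat.le_pow_clog (Fact.out : p.Prime).one_lt a)
  refine ⟨(k, a) :: L, ?_, ?_, ?_, ?_⟩
  · intro x hx
    rcases List.mem_cons.1 hx with rfl | hx
    exacts [⟨hk, ha⟩, hL1 x hx]
  · rw [List.map_cons, List.sum_cons, hL2, hdeg]
  · intro N hN
    rw [hPQ]
    refine hcopQ.mul_dvd (hga.trans (sub_C_dvd_sub_one (u := p ^ l + 1) ?_ ?_))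
      (hL3 N fun x hx => hN x (List.mem_cons_of_mem _ hx))
    · rw [← pow_mul, mul_comm, pow_mul, hc, one_pow]
    · exact hN (k, a) (List.mem_cons_self ..)
  · intro x hx
    simp only [List.cons.injEq] at hx
    obtain ⟨rfl, rfl⟩ := hx
    refine ⟨c ^ p ^ Nat.clog p a, ?_⟩
    have hQ1 : Q = 1 := hQm.natDegree_eq_zero.1 (by simpa using hL2.symm)
    rw [hPQ, hQ1, mul_one]
    exact hga

end CfsgLib.UnitaryMaxOrder
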