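import Cfsg.Agent.Lib.UnitaryMaxOrder.Basic
import Cfsg.Agent.Lib.UnitaryMaxOrder.Poly

/-!
The upper bound for element orders in the projective unitary group.
-/

set_option autoImplicit false

open Polynomial Matrix

namespace CfsgLib.UnitaryMaxOrder

open CfsgLib.Spectrum

variable {F : Type*} [Field F] [Fintype F] (p l : ℕ) [Fact p.Prime] [CharP F p]
  (hF : Fintype.card F = (p ^ l) ^ 2)
include hF

theorem charpoly_spec {n : ℕ} {M : Matrix (Fin n) (Fin n) F} (hM : hermAdj (p ^ l) M * M = 1) :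
    M.charpoly.coeff 0 ≠ 0 ∧ Associated (cj p l M.charpoly) M.charpoly := by
  have hMu : IsUnit M := IsUnit.of_mul_eq_one_right (hermAdj (p ^ l) M) hM
  have hdet : IsUnit M.det := (Matrix.isUnit_iff_isUnit_det M).1 hMu
  refine ⟨fun e => hdet.ne_zero (by rw [Matrix.det_eq_sign_charpoly_coeff, e, mul_zero]), ?_⟩
  have he := pow_sq_card p l hF
  have hτ := isTwist_hermAdj (F := F) (n := n) p l he
  have h1 := Matrix.charpoly_inv M hMu
  rw [Matrix.inv_eq_left_inv hM, hτ.τ_charpoly, ← Matrix.reverse_charpoly] at h1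
  have h2 := congrArg (Polynomial.map (iterateFrobenius F p l)) h1
  rw [map_map_frobenius p l he, Polynomial.map_mul] at h2
  have hu : IsUnit (((-1 : F[X]) ^ Fintype.card (Fin n) * C (Ring.inverse M.det)).map
      (iterateFrobenius F p l)) :=
    IsUnit.map (mapRingHom (iterateFrobenius F p l))
      (((isUnit_one.neg).pow _).mul ((Polynomial.isUnit_C).2 (IsUnit.ringInverse hdet)))
  obtain ⟨U, hU⟩ := hu
  exact ⟨U, by rw [hU, mul_comm]; exact h2.symm⟩

/-- The upper bound. -/
theorem orderOf_bnd {d : ℕ} (hl : 1 ≤ l) (hd : 3 ≤ d) (h32 : ¬ (d = 3 ∧ p ^ l = 2))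
    (x : Cfsg.GU d F (p ^ l) ⧸ Subgroup.center (Cfsg.GU d F (p ^ l))) :
    Bnd (p ^ l) p l d (orderOf x) := by
  obtain ⟨g, rfl⟩ := QuotientGroup.mk_surjective x
  set M := ((g : Matrix.GeneralLinearGroup (Fin d) F) : Matrix (Fin d) (Fin d) F) with hMdef
  obtain ⟨h0, hc⟩ := charpoly_spec p l hF ((mem_GU_iff_adj p l _).1 g.2)
  obtain ⟨L, hL1, hL2, hL3, hL4⟩ := exists_blocks p l hF M.charpoly (Matrix.charpoly_monic M) h0 hc
  rw [Matrix.charpoly_natDegree_eq_dim, Fintype.card_fin] at hL2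
  refine bnd_list (Fact.out : p.Prime).two_le rfl hl hd h32 L hL1 hL2 (fun N hN hdiv => ?_)
    (fun y hy => ?_)
  · refine Nat.le_of_dvd hN (orderOf_dvd_of_pow_eq_one ?_)
    rw [← QuotientGroup.mk_pow]
    apply mk_eq_one_of_scalar p l (c := 1)
    obtain ⟨R, hR⟩ := hL3 N hdiv
    have h := congrArg (aeval M) hR
    rw [map_mul, Matrix.aeval_self_charpoly, zero_mul, map_sub, map_pow, aeval_X, map_one,
      sub_eq_zero] at h
    rw [SubmonoidClass.coe_pow, Units.val_pow_eq_pow_val, ← hMdef, h, map_one]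
  · obtain ⟨c, R, hR⟩ := hL4 y hy
    refine Nat.le_of_dvd ?_ (orderOf_dvd_of_pow_eq_one ?_)
    · refine Nat.mul_pos (Nat.pos_of_ne_zero fun e => ?_) (pow_pos (Fact.out : p.Prime).pos _)
      have hy1 := (hL1 y (by rw [hy]; exact List.mem_singleton_self y)).1
      have e' : (p ^ l + 1) * altExp (p ^ l) y.1 = 0 := by rw [e, mul_zero]
      have hq1 : 1 ≤ p ^ l := Nat.one_le_pow _ _ (Fact.out : p.Prime).pos
      rcases Nat.even_or_odd y.1 with h | h
      · rw [add_one_mul_altExp_even hq1 h] at e'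
        have := Nat.one_lt_pow (n := y.1) (by omega) (two_le_pow p l hF)
        omega
      · rw [add_one_mul_altExp_odd hq1 h] at e'
        omega
    rw [← QuotientGroup.mk_pow]
    apply mk_eq_one_of_scalar p l (c := c)
    have h := congrArg (aeval M) hR
    rw [map_mul, Matrix.aeval_self_charpoly, zero_mul, map_sub, map_pow, aeval_X, aeval_C,
      sub_eq_zero] at h
    rw [SubmonoidClass.coe_pow, Units.val_pow_eq_pow_val, ← hMdef, h]
    rfl

end CfsgLib.UnitaryMaxOrder
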