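import Cfsg.Agent.Lib.UnitaryMaxOrder.Basic

/-!
Elements of large order in projective unitary groups.
-/

set_option autoImplicit false

open Polynomial Matrix

namespace CfsgLib.UnitaryMaxOrder

open CfsgLib.Spectrum

variable {F : Type*} [Field F] [Fintype F] (p l : ℕ) [Fact p.Prime] [CharP F p]
  (hF : Fintype.card F = (p ^ l) ^ 2)
include hF

/-- A unitary element from a twisted algebra. -/
theorem exists_pgu_of_twistForm {n : ℕ} {A : Type*} [CommRing A] [Algebra F A]
    [Module.Finite F A] (hfin : Module.finrank F A = n) {st : A →+* A} {lam : A →ₗ[F] F}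
    (h : IsTwistForm (p ^ l) (1 : F) st lam) (a : A) (ha : a * st a = 1) :
    ∃ g : Cfsg.GU n F (p ^ l) ⧸ Subgroup.center (Cfsg.GU n F (p ^ l)),
      ∀ k : ℕ, g ^ k = 1 → ∃ c : F, a ^ k = algebraMap F A c := by
  set σ := iterateFrobenius F p l with hσ
  have hlam : ∀ z, lam (st z) = σ (lam z) := fun z => by
    rw [h.lam_st, one_mul, hσ, iterateFrobenius_def]
  let B : A →ₛₗ[σ] A →ₗ[F] F := LinearMap.mk₂'ₛₗ σ (RingHom.id F) (fun x y => lam (st x * y))
    (fun x x' y => by rw [map_add, add_mul, map_add])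
    (fun c x y => by
      rw [h.st_smul, smul_mul_assoc, map_smul, hσ, iterateFrobenius_def])
    (fun x y y' => by rw [mul_add, map_add])
    (fun c x y => by rw [mul_smul_comm, map_smul]; rfl)
  have hB : ∀ x y, B x y = lam (st x * y) := fun x y => rfl
  have hsymm : B.IsSymm := ⟨fun x y => by
    rw [hB, hB, ← hlam, map_mul st, h.invol, mul_comm]⟩
  obtain ⟨b, hspan, hb⟩ := CfsgLib.Forms.exists_orthonormal_family B (iterateFrobenius_ne_id p l hF)
    (fun c => by rw [hσ, iterateFrobenius_def, iterateFrobenius_def, ← pow_mul, pow_sq_card p l hF])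
    hsymm n ⊤ (by rw [finrank_top, hfin]) (fun x _ hx => by
      by_contra hx0
      obtain ⟨y, hy⟩ := h.nondeg (st x) (fun h0 => hx0 (by rw [← h.invol x, h0, map_zero]))
      exact hy (hx y Submodule.mem_top))
  have hli : LinearIndependent F b :=
    linearIndependent_of_top_le_span_of_card_eq_finrank hspan.ge (by simp [hfin])
  let bb : Module.Basis (Fin n) F A := Module.Basis.mk hli hspan.ge
  have hform : ∀ x y, Cfsg.hermForm n F (p ^ l) (bb.repr x) (bb.repr y) = B y x := by
    intro x y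
    conv_rhs => rw [← bb.sum_repr y, ← bb.sum_repr x]
    simp only [map_sum, LinearMap.map_smulₛₗ, LinearMap.map_smul, LinearMap.sum_apply,
      LinearMap.smul_apply, smul_eq_mul, RingHom.id_apply, bb, Module.Basis.mk_apply, hb,
      mul_ite, mul_one, mul_zero, Finset.sum_ite_eq, Finset.sum_ite_eq', Finset.mem_univ, if_true]
    exact Finset.sum_congr rfl fun i _ => by rw [hσ, iterateFrobenius_def, mul_comm]
  let u : Matrix.GeneralLinearGroup (Fin n) F :=
    Units.map (Algebra.leftMulMatrix bb).toRingHom.toMonoidHom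
      ⟨a, st a, ha, by rw [mul_comm]; exact ha⟩
  have hu : (u : Matrix (Fin n) (Fin n) F) = Algebra.leftMulMatrix bb a := rfl
  have hMem : u ∈ Cfsg.GU n F (p ^ l) := by
    intro v v'
    show Cfsg.hermForm n F (p ^ l) (Algebra.leftMulMatrix bb a *ᵥ v) (Algebra.leftMulMatrix bb a *ᵥ v') = _
    obtain ⟨x, rfl⟩ : ∃ x, (bb.repr x : Fin n → F) = v :=
      ⟨bb.equivFun.symm v, bb.equivFun.apply_symm_apply v⟩
    obtain ⟨y, rfl⟩ : ∃ y, (bb.repr y : Fin n → F) = v' :=
      ⟨bb.equivFun.symm v', bb.equivFun.apply_symm_apply v'⟩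
    rw [Algebra.leftMulMatrix_mulVec_repr, Algebra.leftMulMatrix_mulVec_repr, hform, hform, hB, hB,
      map_mul st, show st a * st y * (a * x) = (a * st a) * (st y * x) by ring, ha, one_mul]
  refine ⟨QuotientGroup.mk ⟨u, hMem⟩, fun k hk => ?_⟩
  rw [← QuotientGroup.mk_pow] at hk
  obtain ⟨c, hc⟩ := exists_scalar_of_mk_eq_one p l hF hk
  refine ⟨c, Algebra.leftMulMatrix_injective bb ?_⟩
  rw [map_pow, AlgHom.commutes]
  rw [SubmonoidClass.coe_pow, Units.val_pow_eq_pow_val, hu] at hc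
  exact hc

/-- A Singer block and a unipotent block. -/
theorem exists_pgu_field_trunc {k m : ℕ} (hk : Odd k) (hm : 1 ≤ m) :
    ∃ g : Cfsg.GU (k + m) F (p ^ l) ⧸ Subgroup.center (Cfsg.GU (k + m) F (p ^ l)),
      ((p ^ l) ^ k + 1) * p ^ Nat.clog p m ∣ orderOf g := by
  have hp : p.Prime := Fact.out
  set q := p ^ l with hq
  have hq2 : 2 ≤ q := two_le_pow p l hF
  have hk1 : 1 ≤ k := hk.pos
  haveI : NeZero k := ⟨by omega⟩
  let K := FiniteField.Extension F p k
  haveI : CharP K p := charP_of_injective_algebraMap (algebraMap F K).injective p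
  haveI : Fintype K := Fintype.ofFinite K
  haveI : Module.Finite F K := .of_finite
  have hfinK : Module.finrank F K = k := FiniteField.finrank_extension F p k
  have hK : Fintype.card K = q ^ k * q ^ k := by
    rw [← Nat.card_eq_fintype_card, FiniteField.natCard_extension, Nat.card_eq_fintype_card, hF,
      ← pow_mul, two_mul, pow_add]
  have hpn : p ^ (l * k) = q ^ k := by rw [pow_mul]
  have hFn : ∀ c : F, c ^ (p ^ (l * k)) = c ^ (p ^ l) := fun c => by
    rw [hpn, ← hq]
    obtain ⟨j, hj⟩ := hk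
    rw [hj, pow_succ, pow_mul c, pow_mul, show q ^ 2 = Fintype.card F from hF.symm,
      FiniteField.pow_card_pow]
  obtain ⟨lam, hl⟩ := exists_twistForm_field (F := F) p l (K := K) (l * k) hFn
    (fun z => by rw [hpn, ← pow_mul, ← hK, FiniteField.pow_card]) 1 1 one_ne_zero (by simp) (mul_one 1)
  obtain ⟨γ, hγ⟩ := IsCyclic.exists_ofOrder_eq_natCard (α := Kˣ)
  rw [Nat.card_units, Nat.card_eq_fintype_card, hK] at hγ
  obtain ⟨u, hu⟩ := exists_orderOf_eq_of_dvd_orderOf γ (m := q ^ k + 1)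
    (hγ ▸ ⟨q ^ k - 1, by rw [← Nat.sq_sub_sq, one_pow, pow_two]⟩)
  obtain ⟨st', lam', hl', hw⟩ := exists_twist_truncated p l hF hm
  obtain ⟨hfin, hord, ⟨ev, hev⟩, -⟩ := truncated_one_add_root (F := F) p hm
  set w : AdjoinRoot (X ^ m : F[X]) := 1 + AdjoinRoot.root (X ^ m : F[X])
  haveI : Module.Finite F (AdjoinRoot (X ^ m : F[X])) :=
    (AdjoinRoot.powerBasis (pow_ne_zero _ X_ne_zero)).finite
  have hT := hl.prod hl' (fun a b => add_pow_char_pow a b p l)
  obtain ⟨g, hg⟩ := exists_pgu_of_twistForm p l hF (n := k + m)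
    (A := K × AdjoinRoot (X ^ m : F[X]))
    (by rw [Module.finrank_prod, hfinK, hfin]) hT ((u : K), w) (by
      simp only [RingHom.coe_prodMap, Prod.map_apply, Prod.mk_mul_mk, hw, iterateFrobenius_def, hpn]
      rw [← pow_succ', ← Units.val_pow_eq_pow_val, ← hu, pow_orderOf_eq_one, Units.val_one]
      rfl)
  refine ⟨g, ?_⟩
  obtain ⟨c, hc⟩ := hg (orderOf g) (pow_orderOf_eq_one g)
  rw [Prod.pow_mk, Prod.ext_iff] at hc
  obtain ⟨hc1, hc2⟩ := hc
  simp only [Prod.algebraMap_apply] at hc1 hc2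
  have hc0 : c = 1 := by
    have := congrArg ev hc2
    rw [map_pow, hev, one_pow, AlgHom.commutes] at this
    simpa using this.symm
  rw [hc0, map_one] at hc1 hc2
  refine Nat.Coprime.mul_dvd_of_dvd_of_dvd (Nat.Coprime.pow_right _ ?_) ?_
    (hord ▸ orderOf_dvd_of_pow_eq_one hc2)
  · rw [Nat.coprime_comm, hp.coprime_iff_not_dvd]
    intro hd
    have hl0 : l ≠ 0 := fun e => by rw [hq, e, pow_zero] at hq2; omega
    exact hp.not_dvd_one ((Nat.dvd_add_right (dvd_pow (dvd_pow_self p hl0) (by omega))).1 hd)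
  · rw [← hu]
    exact orderOf_dvd_of_pow_eq_one (Units.ext (by rw [Units.val_pow_eq_pow_val, hc1, Units.val_one]))

/-- A pair of conjugate Singer blocks beside a trivial line. -/
theorem exists_pgu_double {m : ℕ} (hm : 1 ≤ m) :
    ∃ g : Cfsg.GU (m + m + 1) F (p ^ l) ⧸ Subgroup.center (Cfsg.GU (m + m + 1) F (p ^ l)),
      (p ^ l) ^ (m + m) - 1 ∣ orderOf g := by
  set q := p ^ l with hq
  have hq2 : 2 ≤ q := two_le_pow p l hF
  haveI : NeZero m := ⟨by omega⟩
  let K := FiniteField.Extension F p m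
  haveI : CharP K p := charP_of_injective_algebraMap (algebraMap F K).injective p
  haveI : Fintype K := Fintype.ofFinite K
  haveI : Module.Finite F K := .of_finite
  have hfinK : Module.finrank F K = m := FiniteField.finrank_extension F p m
  have hK : Fintype.card K = q ^ (m + m) := by
    rw [← Nat.card_eq_fintype_card, FiniteField.natCard_extension, Nat.card_eq_fintype_card, hF,
      ← pow_mul, two_mul]
  set r := l * (m + m - 1) with hr
  have hpr : p ^ r = q ^ (m + m - 1) := by rw [hr, pow_mul]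
  have hKr : ∀ z : K, (z ^ (p ^ r)) ^ (p ^ l) = z := fun z => by
    rw [hpr, ← hq, ← pow_mul, ← pow_succ, show m + m - 1 + 1 = m + m by omega, ← hK,
      FiniteField.pow_card]
  have hFr : ∀ c : F, c ^ (p ^ r) = c ^ (p ^ l) := fun c => by
    rw [hpr, ← hq]
    obtain ⟨j, hj⟩ : ∃ j, m + m - 1 = 2 * j + 1 := ⟨m - 1, by omega⟩
    rw [hj, pow_succ, pow_mul c, pow_mul, show q ^ 2 = Fintype.card F from hF.symm,
      FiniteField.pow_card_pow]
  obtain ⟨st, lam, hl, hst⟩ := exists_twistForm_double p l (F := F) (K := K) l r (fun _ => rfl) hFr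
    (fun z => by rw [← pow_mul, mul_comm, pow_mul, hKr]) 1 (mul_one 1) (one_pow _)
  obtain ⟨γ, hγ⟩ := IsCyclic.exists_ofOrder_eq_natCard (α := Kˣ)
  rw [Nat.card_units, Nat.card_eq_fintype_card, hK] at hγ
  set v : K := ((γ : K)⁻¹) ^ (p ^ r) with hv
  have huv : (γ : K) * v ^ (p ^ l) = 1 := by rw [hv, hKr, mul_inv_cancel₀ γ.ne_zero]
  have hT := hl.prod (IsTwistForm.self p l (pow_sq_card p l hF)) (fun a b => add_pow_char_pow a b p l)
  obtain ⟨g, hg⟩ := exists_pgu_of_twistForm p l hF (n := m + m + 1) (A := (K × K) × F)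
    (by rw [Module.finrank_prod, Module.finrank_prod, hfinK, Module.finrank_self]) hT
    (((γ : K), v), (1 : F)) (by
      simp only [RingHom.coe_prodMap, Prod.map_apply, Prod.mk_mul_mk, hst, map_one, mul_one]
      rw [huv, hv, inv_pow, inv_mul_cancel₀ (pow_ne_zero _ γ.ne_zero)]
      rfl)
  refine ⟨g, ?_⟩
  obtain ⟨c, hc⟩ := hg (orderOf g) (pow_orderOf_eq_one g)
  rw [Prod.pow_mk, Prod.pow_mk, one_pow, Prod.ext_iff] at hc
  obtain ⟨hc1, hc2⟩ := hc
  have hc0 : c = 1 := by simpa using hc2.symm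
  have hc1' : (γ : K) ^ orderOf g = algebraMap F K c := congrArg Prod.fst hc1
  rw [hc0, map_one] at hc1'
  rw [← hγ]
  exact orderOf_dvd_of_pow_eq_one (Units.ext (by rw [Units.val_pow_eq_pow_val, hc1', Units.val_one]))

end CfsgLib.UnitaryMaxOrder
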